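import Cfsg.Agent.Lib.Helper67.LSF.Defs

/-!
# LSF (S5286, helper67): package [VSHAPE]

Along a geodesic of the Cayley tree of a free group the distance to a fixed vertex first decreases
and then increases.  Proof: induction on the first part of the path, with the dichotomy
"`toWord a ++ L` is reduced" (norms add) or "`toWord a` ends with the inverse of the head of `L`"
(one cancellation, the norm drops by one).
-/

set_option autoImplicit false

namespace Cfsg.Agent.Lib.Helper1.LSF

open Cfsg Cfsg.Agent.Lib.Helper67.LSF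

universe u

variable {X : Type u} [DecidableEq X]

/-- The reduced word of `a * mk L`. -/
theorem toWord_mul_mk (a : FreeGroup X) (L : List (X × Bool)) :
    (a * FreeGroup.mk L).toWord = FreeGroup.reduce (a.toWord ++ L) := by
  conv_lhs => rw [← FreeGroup.mk_toWord (x := a), FreeGroup.mul_mk, FreeGroup.toWord_mk]

/-- If `toWord a ++ L` is reduced, the norms add. -/
theorem norm_mul_mk_of_reduced (a : FreeGroup X) (L : List (X × Bool))
    (h : FreeGroup.IsReduced (a.toWord ++ L)) :
    (a * FreeGroup.mk L).norm = a.norm + L.length := by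
  unfold FreeGroup.norm
  rw [toWord_mul_mk, h.reduce_eq, List.length_append]

/-- Either `toWord a ++ ℓ :: L` is reduced or `toWord a` ends with the inverse of `ℓ`. -/
theorem reduced_or_cancel (a : FreeGroup X) (ℓ : X × Bool) (L : List (X × Bool))
    (hL : FreeGroup.IsReduced (ℓ :: L)) :
    FreeGroup.IsReduced (a.toWord ++ ℓ :: L) ∨
      ∃ w : List (X × Bool), a.toWord = w ++ [(ℓ.1, !ℓ.2)] := by
  by_cases h : FreeGroup.IsReduced (a.toWord ++ ℓ :: L)
  · exact Or.inl h
  · right
    have ha : FreeGroup.IsReduced a.toWord := FreeGroup.isReduced_toWord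
    unfold FreeGroup.IsReduced at h ha hL
    rw [List.isChain_append] at h
    push Not at h
    obtain ⟨x, hx, y, hy, hxy⟩ := h ha hL
    have hy' : y = ℓ := by
      simpa using hy.symm
    subst hy'
    obtain ⟨w, hw⟩ : ∃ w, a.toWord = w ++ [x] := List.getLast?_eq_some_iff.mp hx
    refine ⟨w, ?_⟩
    rw [hw]
    have hx1 : x.1 = y.1 := hxy.1
    have hx2 : x.2 = !y.2 := by
      have hne := hxy.2
      cases hxb : x.2 <;> cases hyb : y.2 <;> simp_all
    have : x = (y.1, !y.2) := Prod.ext hx1 hx2
    rw [this]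

/-- One cancellation: the norm drops by one. -/
theorem norm_mul_mk_cancel (a : FreeGroup X) (ℓ : X × Bool) (w : List (X × Bool))
    (hw : a.toWord = w ++ [(ℓ.1, !ℓ.2)]) :
    (a * FreeGroup.mk [ℓ]).norm + 1 = a.norm := by
  have hwred : FreeGroup.IsReduced w := by
    have ha : FreeGroup.IsReduced a.toWord := FreeGroup.isReduced_toWord
    rw [hw] at ha
    exact ha.infix (List.prefix_append w _).isInfix
  have h1 : (a * FreeGroup.mk [ℓ]).toWord = w := by
    rw [toWord_mul_mk, hw]
    have hstep : FreeGroup.Red.Step (w ++ (ℓ.1, !ℓ.2) :: (ℓ.1, ℓ.2) :: []) (w ++ []) :=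
      FreeGroup.Red.Step.not_rev
    have e : w ++ [(ℓ.1, !ℓ.2)] ++ [ℓ] = w ++ (ℓ.1, !ℓ.2) :: (ℓ.1, ℓ.2) :: [] := by
      simp
    rw [e, FreeGroup.reduce.eq_of_red hstep.to_red, List.append_nil, hwred.reduce_eq]
  unfold FreeGroup.norm
  rw [h1, hw, List.length_append, List.length_singleton]

/-- **[VSHAPE]** -/
theorem pkgVShape : PkgVShape.{u} := by
  intro X _ a L₁
  induction L₁ generalizing a with
  | nil =>
    intro L₂ _ h
    exact absurd rfl h
  | cons ℓ L₁' ih =>
    intro L₂ hred _ hL₂
    have hred' : FreeGroup.IsReduced (ℓ :: (L₁' ++ L₂)) := by simpa using hred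
    have hl : 0 < L₂.length := List.length_pos_iff.mpr hL₂
    rcases reduced_or_cancel a ℓ (L₁' ++ L₂) hred' with h | ⟨w, hw⟩
    · have h1 : (a * FreeGroup.mk (ℓ :: L₁' ++ L₂)).norm =
          a.norm + (ℓ :: L₁' ++ L₂).length :=
        norm_mul_mk_of_reduced a _ (by simpa using h)
      have h2 : (a * FreeGroup.mk (ℓ :: L₁')).norm = a.norm + (ℓ :: L₁').length := by
        apply norm_mul_mk_of_reduced
        refine h.infix ⟨[], L₂, ?_⟩
        simp
      rw [lt_max_iff]
      right
      rw [h1, h2]
      simp only [List.length_append, List.length_cons]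
      omega
    · have hstep := norm_mul_mk_cancel a ℓ w hw
      by_cases hL1 : L₁' = []
      · subst hL1
        rw [lt_max_iff]
        left
        omega
      · have hih := ih (a * FreeGroup.mk [ℓ]) L₂ (hred'.infix ⟨[ℓ], [], by simp⟩) hL1 hL₂
        have e1 : a * FreeGroup.mk [ℓ] * FreeGroup.mk L₁' = a * FreeGroup.mk (ℓ :: L₁') := by
          rw [mul_assoc, FreeGroup.mul_mk]
          rfl
        have e2 : a * FreeGroup.mk [ℓ] * FreeGroup.mk (L₁' ++ L₂) =
            a * FreeGroup.mk (ℓ :: L₁' ++ L₂) := by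
          rw [mul_assoc, FreeGroup.mul_mk]
          rfl
        rw [e1, e2] at hih
        rw [lt_max_iff] at hih ⊢
        rcases hih with h | h
        · left
          omega
        · right
          exact h

end Cfsg.Agent.Lib.Helper1.LSF
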